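import Mathlib
import Cfsg.Agent.Lib.Helper93.M11U.Defs

/-!
# S0420 package [IDX11] (helper25)

The action on the `11` cosets of a subgroup `M` of order `720` with a fixed vector in `χa`.
-/

set_option autoImplicit false

universe u

namespace Cfsg.Agent.Lib.Helper25.M11U

open Cfsg.Agent.Lib.Helper93.M11U

theorem prime_dvd_7920 {p : ℕ} (hp : p.Prime) (h : p ∣ 7920) :
    p = 2 ∨ p = 3 ∨ p = 5 ∨ p = 11 := by
  have e : 7920 = 2 ^ 4 * 3 ^ 2 * 5 * 11 := by norm_num
  rw [e] at h
  rcases (Nat.Prime.dvd_mul hp).mp h with h | h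
  · rcases (Nat.Prime.dvd_mul hp).mp h with h | h
    · rcases (Nat.Prime.dvd_mul hp).mp h with h | h
      · left
        exact (Nat.prime_dvd_prime_iff_eq hp Nat.prime_two).mp (hp.dvd_of_dvd_pow h)
      · right; left
        exact (Nat.prime_dvd_prime_iff_eq hp Nat.prime_three).mp (hp.dvd_of_dvd_pow h)
    · right; right; left
      exact (Nat.prime_dvd_prime_iff_eq hp Nat.prime_five).mp h
  · right; right; right
    exact (Nat.prime_dvd_prime_iff_eq hp (by norm_num)).mp h

theorem fixCount_pow_le {G : Type u} [Group G] [Finite G] (M : Subgroup G) (g : G) (k : ℕ) :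
    fixCount M g ≤ fixCount M (g ^ k) := by
  unfold fixCount
  have hfix : ∀ q : G ⧸ M, g • q = q → g ^ k • q = q := by
    intro q hq
    induction k with
    | zero => simp
    | succ k ih => rw [pow_succ, mul_smul, hq, ih]
  apply Nat.card_le_card_of_injective
    (fun q : {q : G ⧸ M // g • q = q} => (⟨q.1, hfix q.1 q.2⟩ : {q : G ⧸ M // g ^ k • q = q}))
  intro a b h
  have h1 : (a : G ⧸ M) = (b : G ⧸ M) := congrArg (fun z : {q : G ⧸ M // g ^ k • q = q} => (z : G ⧸ M)) h
  exact Subtype.ext h1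

/-- package [IDX11] -/
theorem pkgIdx11 : PkgIdx11.{u} := by
  intro G _ _ T hS hG M hM hMne hPerm2
  have hidx : M.index = 11 := by
    have := M.card_mul_index
    rw [hM, hG] at this
    omega
  have hχa1 : (T.χa : G → ℂ) 1 = 10 := T.deg.2.2.1
  obtain ⟨hperm, -⟩ := hPerm2 G M (T.χa : G → ℂ) T.χa.2 (by rw [hχa1]; norm_num)
    (by rw [hχa1, hidx]; norm_num) hMne
  have h2 : ∀ t : G, orderOf t = 2 → fixCount M t = 3 := by
    intro t ht
    have h := hperm t
    rw [(T.v2 t ht).2.2.1] at h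
    have : (fixCount M t : ℂ) = ((3 : ℕ) : ℂ) := by rw [h]; norm_num
    exact_mod_cast this
  have h3 : ∀ t : G, orderOf t = 3 → fixCount M t = 2 := by
    intro t ht
    have h := hperm t
    rw [(T.v3 t ht).2.2.1] at h
    have : (fixCount M t : ℂ) = ((2 : ℕ) : ℂ) := by rw [h]; norm_num
    exact_mod_cast this
  have h5 : ∀ t : G, orderOf t = 5 → fixCount M t = 1 := by
    intro t ht
    have h := hperm t
    rw [(T.v5 t ht).2.2.1] at h
    have : (fixCount M t : ℂ) = ((1 : ℕ) : ℂ) := by rw [h]; norm_num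
    exact_mod_cast this
  have h11 : ∀ t : G, orderOf t = 11 → fixCount M t = 0 := by
    intro t ht
    unfold fixCount
    haveI : IsEmpty {q : G ⧸ M // t • q = q} := by
      constructor
      rintro ⟨q, hq⟩
      obtain ⟨a, rfl⟩ := QuotientGroup.mk_surjective q
      change (QuotientGroup.mk (t * a) : G ⧸ M) = QuotientGroup.mk a at hq
      rw [QuotientGroup.eq] at hq
      have hx : a⁻¹ * t * a ∈ M := by
        have h1 := M.inv_mem hq
        have e : ((t * a)⁻¹ * a)⁻¹ = a⁻¹ * t * a := by group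
        rwa [e] at h1
      have ho : orderOf (a⁻¹ * t * a) = 11 := by
        have h1 := (MulAut.conj a⁻¹).orderOf_eq t
        simp only [MulAut.conj_apply, inv_inv] at h1
        rw [h1, ht]
      have hd : orderOf (⟨a⁻¹ * t * a, hx⟩ : M) ∣ Nat.card M := orderOf_dvd_natCard _
      rw [Subgroup.orderOf_mk, ho, hM] at hd
      norm_num at hd
    exact Nat.card_of_isEmpty
  refine ⟨hidx, ?_, h3⟩
  intro g hg
  have hn : orderOf g ≠ 1 := fun h => hg (orderOf_eq_one_iff.mp h)
  have hpos : 0 < orderOf g := orderOf_pos g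
  obtain ⟨p, hp, hpd⟩ := Nat.exists_prime_and_dvd hn
  have hpG : p ∣ 7920 := by
    rw [← hG]
    exact hpd.trans (orderOf_dvd_natCard g)
  have hho : orderOf (g ^ (orderOf g / p)) = p := orderOf_pow_orderOf_div hpos.ne' hpd
  have hle := fixCount_pow_le M g (orderOf g / p)
  rcases prime_dvd_7920 hp hpG with rfl | rfl | rfl | rfl
  · rw [h2 _ hho] at hle
    exact hle
  · rw [h3 _ hho] at hle
    omega
  · rw [h5 _ hho] at hle
    omega
  · rw [h11 _ hho] at hle
    omega

end Cfsg.Agent.Lib.Helper25.M11U
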