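import Mathlib
import Cfsg.Agent.Lib.Helper93.M11U.Defs
import Cfsg.Agent.Lib.Helper17.Simple

/-!
# S0420 package [M720] (helper25)

A subgroup of order `720` with a fixed vector in `χa`.
-/

set_option autoImplicit false

universe u

namespace Cfsg.Agent.Lib.Helper25.M11U

open Cfsg.Agent.Lib.Helper93.M11U

/-- package [M720] -/
theorem pkgM720 : PkgM720.{u} := by
  intro G _ _ T hS hG C hX0 hNF X₁ hX₁K hfX₁ hX₁card hX₁ne hX₁sum hNFsum hStab
  classical
  haveI := hS
  obtain ⟨F, hF⟩ : ∃ F : Subgroup G, F = Subgroup.zpowers C.f := ⟨_, rfl⟩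
  have hFcard : Nat.card F = 5 := by rw [hF, Nat.card_zpowers, C.hf]
  have hFsum : sumOn (T.χa : G → ℂ) F = 10 := by
    haveI : Fintype F := Fintype.ofFinite F
    unfold sumOn
    rw [finsum_eq_sum_of_fintype, Finset.sum_eq_single (1 : F)]
    · simpa using T.deg.2.2.1
    · intro h _ hne
      have hd : orderOf (h : G) ∣ 5 := by
        rw [← hFcard, Subgroup.orderOf_coe]
        exact orderOf_dvd_natCard h
      have h5 : orderOf (h : G) = 5 := by
        rcases (Nat.dvd_prime Nat.prime_five).mp hd with h1 | h1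
        · exfalso
          apply hne
          exact Subtype.ext (orderOf_eq_one_iff.mp h1)
        · exact h1
      exact (T.v5 _ h5).2.2.1
    · intro h
      exact absurd (Finset.mem_univ _) h
  have hFX₁ : F ≤ X₁ := by
    rw [hF, Subgroup.zpowers_le]
    exact hfX₁
  have hFNF : F ≤ NF C := by
    rw [hF]
    exact Subgroup.le_normalizer
  have hχ1 : (T.χa : G → ℂ) 1 ≠ 1 := by
    rw [T.deg.2.2.1]
    norm_num
  obtain ⟨M, hX₁M, hNFM, hMtop, hMne⟩ := hStab G (T.χa : G → ℂ) T.χa.2 hχ1 F X₁ (NF C) hFX₁ hFNF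
    (by rw [hFsum, hNFsum, hNF, hFcard]; norm_num) (by rw [hX₁sum]; norm_num)
  refine ⟨M, ?_, hMne⟩
  have hMdvd : Nat.card M ∣ 7920 := by
    rw [← hG]
    exact Subgroup.card_subgroup_dvd_card M
  have h60 : 60 ∣ Nat.card M := by
    rw [← hX₁card]
    exact Subgroup.card_dvd_of_le hX₁M
  have hidx : 11 ≤ M.index := by
    have h1 := Cfsg.Agent.Lib.Helper17.card_dvd_factorial_index M hMtop
    rw [hG] at h1
    by_contra hlt
    push Not at hlt
    have h2 : 11 ∣ (M.index).factorial := Dvd.dvd.trans (by norm_num) h1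
    have h3 := (Nat.Prime.dvd_factorial (by norm_num : Nat.Prime 11)).mp h2
    omega
  have hMle : Nat.card M ≤ 720 := by
    have h1 := M.card_mul_index
    rw [hG] at h1
    nlinarith
  have hn5 : ∃ n, Nat.card M = 20 * n ∧ n % 5 = 1 := by
    haveI : Fact (Nat.Prime 5) := ⟨Nat.prime_five⟩
    have hFM : F ≤ M := hFNF.trans hNFM
    have hF'card : Nat.card (F.subgroupOf M) = 5 := by
      rw [← hFcard]
      exact Nat.card_congr (Subgroup.subgroupOfEquivOfLe hFM).toEquiv
    have hF'p : IsPGroup 5 (F.subgroupOf M) :=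
      IsPGroup.of_card (n := 1) (by rw [hF'card, pow_one])
    obtain ⟨P, hP⟩ := hF'p.exists_le_sylow
    have hPcard : Nat.card (P : Subgroup M) = 5 := by
      obtain ⟨k, hk⟩ := (IsPGroup.iff_card.mp P.isPGroup')
      have hPdvd : Nat.card (P : Subgroup M) ∣ 7920 :=
        (Subgroup.card_subgroup_dvd_card _).trans hMdvd
      have hle : 5 ≤ Nat.card (P : Subgroup M) := by
        have hle' := Subgroup.card_le_of_le hP
        omega
      rw [hk] at hPdvd hle ⊢
      rcases k with _ | _ | k
      · norm_num at hle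
      · norm_num
      · exfalso
        have : 25 ∣ 7920 := Dvd.dvd.trans ⟨5 ^ k, by ring⟩ hPdvd
        norm_num at this
    have hPeq : F.subgroupOf M = (P : Subgroup M) :=
      Subgroup.eq_of_le_of_card_ge hP (by rw [hPcard, hF'card])
    have h1 : Nat.card (Sylow 5 M) = (Subgroup.normalizer ((P : Subgroup M) : Set M)).index :=
      P.card_eq_index_normalizer
    have h2 : Nat.card (Sylow 5 M) ≡ 1 [MOD 5] := card_sylow_modEq_one 5 M
    have hnorm : Subgroup.normalizer ((P : Subgroup M) : Set M) = (NF C).subgroupOf M := by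
      rw [← hPeq, ← Subgroup.subgroupOf_normalizer_eq hFM, hF]
      rfl
    have hNcard : Nat.card ((NF C).subgroupOf M) = 20 := by
      rw [← hNF]
      exact Nat.card_congr (Subgroup.subgroupOfEquivOfLe hNFM).toEquiv
    have h3 := (Subgroup.normalizer ((P : Subgroup M) : Set M)).index_mul_card
    rw [hnorm, hNcard] at h3
    rw [hnorm] at h1
    refine ⟨Nat.card (Sylow 5 M), ?_, h2⟩
    rw [h1]
    omega
  obtain ⟨n, hn, hn5⟩ := hn5
  have hcases : Nat.card M = 120 ∨ Nat.card M = 720 := by
    obtain ⟨k, hk⟩ := h60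
    have hk12 : k ≤ 12 := by omega
    have hk0 : 0 < k := by
      have := Nat.card_pos (α := M)
      omega
    rw [hk] at hMdvd
    interval_cases k <;> omega
  rcases hcases with h120 | h720
  · exfalso
    have huNF : C.u ∈ NF C := by
      have hconj : ∀ x ∈ F, C.u * x * C.u⁻¹ ∈ F := by
        intro x hx
        rw [hF] at hx ⊢
        obtain ⟨k, rfl⟩ := Subgroup.mem_zpowers_iff.mp hx
        rw [← conj_zpow]
        exact Subgroup.zpow_mem _ C.hun k
      have hmap : F.map (MulAut.conj C.u).toMonoidHom = F := by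
        apply Subgroup.eq_of_le_of_card_ge
        · rintro _ ⟨x, hx, rfl⟩
          exact hconj x hx
        · rw [Subgroup.card_map_of_injective (MulAut.conj C.u).injective]
      unfold NF
      rw [← hF, Subgroup.mem_normalizer_iff]
      intro x
      constructor
      · exact hconj x
      · intro hx
        rw [← hmap] at hx
        obtain ⟨y, hy, hyx⟩ := hx
        simp only [MulEquiv.coe_toMonoidHom, MulAut.conj_apply] at hyx
        have hyx' : y = x := by
          have h1 := congrArg (fun z => C.u⁻¹ * z * C.u) hyx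
          simpa [mul_assoc] using h1
        rw [← hyx']
        exact hy
    have huM : C.u ∈ M := hNFM huNF
    have hidx2 : (X₁.subgroupOf M).index = 2 := by
      have h1 := (X₁.subgroupOf M).index_mul_card
      have h2 : Nat.card (X₁.subgroupOf M) = 60 := by
        rw [← hX₁card]
        exact Nat.card_congr (Subgroup.subgroupOfEquivOfLe hX₁M).toEquiv
      rw [h2, h120] at h1
      omega
    have hnormal := Subgroup.normal_of_index_eq_two hidx2
    have hconj : ∀ x ∈ X₁, C.u⁻¹ * x * C.u ∈ X₁ := by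
      intro x hx
      have h1 := hnormal.conj_mem ⟨x, hX₁M hx⟩ (Subgroup.mem_subgroupOf.mpr hx)
        ⟨C.u⁻¹, M.inv_mem huM⟩
      rw [Subgroup.mem_subgroupOf] at h1
      simpa using h1
    have hle : X₁ ≤ X0 C := by
      intro x hx
      show x ∈ C.K ⊓ conjSub C.u C.K
      refine Subgroup.mem_inf.mpr ⟨hX₁K hx, ?_⟩
      show x ∈ C.K.map (MulAut.conj C.u).toMonoidHom
      refine Subgroup.mem_map.mpr ⟨C.u⁻¹ * x * C.u, hX₁K (hconj x hx), ?_⟩
      simp only [MulEquiv.coe_toMonoidHom, MulAut.conj_apply]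
      group
    exact hX₁ne (Subgroup.eq_of_le_of_card_ge hle (by rw [hX0, hX₁card]))
  · exact h720

end Cfsg.Agent.Lib.Helper25.M11U
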