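import Mathlib
import Cfsg.Agent.Lib.Helper93.M11U.Defs
import Cfsg.Agent.Lib.Helper59.Derange

/-!
# S0420 package [RANK2] (helper25)

Permutation character `1 + θ` with `⟨θ|_K, 1⟩ = 1`: the two-point stabilizers have order `60`.
-/

set_option autoImplicit false

universe u

namespace Cfsg.Agent.Lib.Helper25.M11U

open Cfsg.Agent.Lib.Helper93.M11U

/-- package [RANK2] -/
theorem pkgRank2 : PkgRank2.{u} := by
  intro G _ _ K θ hG hK hperm hsum g hg
  classical
  haveI : Fintype K := Fintype.ofFinite K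
  have hB := Cfsg.Agent.Lib.Helper59.burnside_natCard K (G ⧸ K)
  have hfix : ∀ k : K, Nat.card (MulAction.fixedBy (G ⧸ K) k) = fixCount K (k : G) :=
    fun k => rfl
  have hS : ((∑ k : K, Nat.card (MulAction.fixedBy (G ⧸ K) k) : ℕ) : ℂ) = 2 * 660 := by
    push_cast
    simp only [hfix, hperm]
    rw [Finset.sum_add_distrib]
    have h1 : sumOn θ K = ∑ k : K, θ (k : G) := finsum_eq_sum_of_fintype _
    rw [← h1, hsum, hK]
    simp only [Finset.sum_const, Finset.card_univ, ← Nat.card_eq_fintype_card, hK]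
    norm_num
  have hS' : ∑ k : K, Nat.card (MulAction.fixedBy (G ⧸ K) k) = 2 * 660 := by exact_mod_cast hS
  rw [hS', hK] at hB
  have horb : Nat.card (MulAction.orbitRel.Quotient K (G ⧸ K)) = 2 := by omega
  -- the two base points
  obtain ⟨q₀, hq₀def⟩ : ∃ q₀ : G ⧸ K, q₀ = QuotientGroup.mk (1 : G) := ⟨_, rfl⟩
  obtain ⟨q₁, hq₁def⟩ : ∃ q₁ : G ⧸ K, q₁ = QuotientGroup.mk g := ⟨_, rfl⟩
  have hq₀ : ∀ k : K, k • q₀ = q₀ := by
    intro k
    rw [hq₀def]
    change (QuotientGroup.mk ((k : G) * 1) : G ⧸ K) = QuotientGroup.mk 1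
    rw [QuotientGroup.eq]
    simp
  have hq₁₀ : q₁ ≠ q₀ := by
    intro h
    rw [hq₁def, hq₀def, QuotientGroup.eq] at h
    apply hg
    have h2 := K.inv_mem h
    simpa using h2
  have horb₀ : ∀ q : G ⧸ K, q ∈ MulAction.orbit K q₀ → q = q₀ := by
    rintro q ⟨k, rfl⟩
    exact hq₀ k
  have hcls : (Quotient.mk'' q₁ : MulAction.orbitRel.Quotient K (G ⧸ K)) ≠ Quotient.mk'' q₀ := by
    intro h
    rw [Quotient.eq''] at h
    exact hq₁₀ (horb₀ q₁ h)
  obtain ⟨c, -, hcuniq⟩ := (Nat.card_eq_two_iff'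
    (Quotient.mk'' q₀ : MulAction.orbitRel.Quotient K (G ⧸ K))).mp horb
  have hall : ∀ q : G ⧸ K, q = q₀ ∨ q ∈ MulAction.orbit K q₁ := by
    intro q
    by_cases hq : (Quotient.mk'' q : MulAction.orbitRel.Quotient K (G ⧸ K)) = Quotient.mk'' q₀
    · left
      rw [Quotient.eq''] at hq
      exact horb₀ q hq
    · right
      have h1 := hcuniq _ hq
      have h2 := hcuniq _ hcls
      have h3 : (Quotient.mk'' q : MulAction.orbitRel.Quotient K (G ⧸ K)) = Quotient.mk'' q₁ :=
        h1.trans h2.symm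
      rw [Quotient.eq''] at h3
      exact h3
  have hq₀not : q₀ ∉ MulAction.orbit K q₁ := by
    intro h
    apply hcls
    rw [Quotient.eq'']
    exact (MulAction.orbitRel K (G ⧸ K)).symm h
  have hidx : Nat.card (G ⧸ K) = 12 := by
    have h1 := K.index_mul_card
    rw [hK, hG] at h1
    have h2 : K.index = Nat.card (G ⧸ K) := rfl
    omega
  have hO : (MulAction.orbit K q₁).ncard = 11 := by
    have huniv : (Set.univ : Set (G ⧸ K)) = insert q₀ (MulAction.orbit K q₁) := by
      ext q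
      simp only [Set.mem_univ, Set.mem_insert_iff, true_iff]
      exact hall q
    have h1 : (Set.univ : Set (G ⧸ K)).ncard = 12 := by
      rw [Set.ncard_univ, hidx]
    rw [huniv, Set.ncard_insert_of_notMem hq₀not] at h1
    omega
  have hstab : Nat.card (MulAction.stabilizer K q₁) = 60 := by
    have h1 := MulAction.index_stabilizer (G := K) (x := q₁)
    rw [hO] at h1
    have h2 := (MulAction.stabilizer K q₁).index_mul_card
    rw [h1, hK] at h2
    omega
  have hEq : MulAction.stabilizer K q₁ = (K ⊓ conjSub g K).subgroupOf K := by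
    ext k
    rw [MulAction.mem_stabilizer_iff, Subgroup.mem_subgroupOf, Subgroup.mem_inf, hq₁def]
    change (QuotientGroup.mk ((k : G) * g) : G ⧸ K) = QuotientGroup.mk g ↔ _
    rw [QuotientGroup.eq]
    constructor
    · intro h
      refine ⟨k.2, ?_⟩
      refine ⟨g⁻¹ * (k : G) * g, ?_, ?_⟩
      · have h2 := K.inv_mem h
        have e : ((k : G) * g)⁻¹ * g = g⁻¹ * (k : G)⁻¹ * g := by group
        rw [e] at h2
        have e2 : (g⁻¹ * (k : G)⁻¹ * g)⁻¹ = g⁻¹ * (k : G) * g := by group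
        rw [e2] at h2
        exact h2
      · simp only [MulEquiv.coe_toMonoidHom, MulAut.conj_apply]
        group
    · rintro ⟨-, x, hx, hxk⟩
      simp only [MulEquiv.coe_toMonoidHom, MulAut.conj_apply] at hxk
      rw [← hxk]
      have e : (g * x * g⁻¹ * g)⁻¹ * g = x⁻¹ := by group
      rw [e]
      exact K.inv_mem hx
  rw [hEq] at hstab
  rw [← hstab]
  exact (Nat.card_congr (Subgroup.subgroupOfEquivOfLe (inf_le_left : K ⊓ conjSub g K ≤ K)).toEquiv).symm

end Cfsg.Agent.Lib.Helper25.M11U
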